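import Cfsg.Agent.Lib.Spor.HN.Rep.Check
import Cfsg.Agent.Lib.Spor.HN.Words
import Cfsg.Prelude.Def_Spor_HN

/-!
The presented Harada–Norton group acts on 133 points over the field of eleven elements, and the square of its
generator `x` does not act trivially.
-/

set_option autoImplicit false
set_option maxRecDepth 100000

namespace CfsgLib.Spor.HN.Rep

open CfsgLib.Spor CfsgLib.Spor.TC Matrix

attribute [local irreducible] PackedMat.through PackedMat.matOf mats idMat matX matXInv

local notation "Sq" => Matrix (Fin 133) (Fin 133) (ZMod 11)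

/-- The matrix of a letter. -/
noncomputable def mat (k : ℕ) : Sq := PackedMat.matOf 133 11 (mats.getD k [])

theorem triv_spec {w : List ℕ} (hw : ∀ k ∈ w, k < 8) (h : trivOK w = true) : (w.map mat).prod = 1 := by
  obtain ⟨hl, hr⟩ := mats_check
  have hMs : ∀ k < mats.length, PackedMat.rowsOK ctx.n ctx.p (mats.getD k []) = true := fun k hk => by
    rw [List.getD_eq_getElem _ _ hk]
    exact List.all_eq_true.1 hr _ (List.getElem_mem _)
  have e := PackedMat.word_eq_scalar valid (show 1 < 11 by norm_num) (show 11 ≤ 65536 by norm_num) hMs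
    (fun k hk => hl.symm ▸ hw k hk) (s := 1) (show 1 < 11 by norm_num)
    (by rw [scalar_enc, mul_one]; exact Nat.eq_of_beq_eq_true h)
  rw [Nat.cast_one, one_smul] at e
  exact e

theorem pair_spec (a b : ℕ) (h : [a, b] ∈ ([[0, 1], [1, 0], [2, 3], [3, 2], [4, 5], [6, 7], [7, 6]] : List (List ℕ)))
    (ha : a < 8) (hb : b < 8) : mat a * mat b = 1 := by
  have := triv_spec (w := [a, b]) (fun j hj => by simp at hj; omega) (List.all_eq_true.1 inv_check _ h)
  simpa using this

theorem mat_five : mat 5 = mat 4 := by simp [mat, mats]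

attribute [local irreducible] mat

theorem square_four : mat 4 * mat 4 = 1 := by
  have h := pair_spec 4 5 (by decide) (by norm_num) (by norm_num)
  rwa [mat_five] at h

/-- The generators in the general linear group. -/
noncomputable def gen : Cfsg.Spor.HN.Gen → GL (Fin 133) (ZMod 11)
  | .x => ⟨mat 0, mat 1, pair_spec 0 1 (by decide) (by norm_num) (by norm_num),
      pair_spec 1 0 (by decide) (by norm_num) (by norm_num)⟩
  | .y => ⟨mat 2, mat 3, pair_spec 2 3 (by decide) (by norm_num) (by norm_num),
      pair_spec 3 2 (by decide) (by norm_num) (by norm_num)⟩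
  | .z => ⟨mat 4, mat 4, square_four, square_four⟩
  | .t => ⟨mat 6, mat 7, pair_spec 6 7 (by decide) (by norm_num) (by norm_num),
      pair_spec 7 6 (by decide) (by norm_num) (by norm_num)⟩

/-- The values of the letters. -/
noncomputable def letters : List (GL (Fin 133) (ZMod 11)) := [gen .x, gen .y, gen .z, gen .t]

theorem letter_val (k : ℕ) (hk : k < 8) : ((letterVal letters k : GL (Fin 133) (ZMod 11)) : Sq) = mat k := by
  interval_cases k <;> simp [letterVal, letters, gen, mat_five]

theorem word_val : ∀ w : List ℕ, (∀ k ∈ w, k < 8) →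
    ((ev (letterVal letters) w : GL (Fin 133) (ZMod 11)) : Sq) = (w.map mat).prod
  | [], _ => by simp [ev]
  | a :: w, hw => by
    rw [ev_cons, Units.val_mul, word_val w fun k hk => hw k (List.mem_cons_of_mem _ hk), List.map_cons,
      List.prod_cons, letter_val a (hw a List.mem_cons_self)]

theorem rels_bound : ∀ r ∈ pairRels ++ tripleRels ++ lastRels, ∀ k ∈ r, k < 8 := by decide +kernel

theorem rels_listed : (pairRels ++ tripleRels ++ lastRels).length = 14 ∧
    ∀ r ∈ pairRels ++ tripleRels ++ lastRels, trivOK r = true := by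
  refine ⟨rfl, fun r hr => List.all_eq_true.1 rels_check r ?_⟩
  exact hr

theorem rels_spec (r : List ℕ) (hr : r ∈ pairRels ++ tripleRels ++ lastRels) : ev (letterVal letters) r = 1 := by
  refine Units.ext ?_
  rw [word_val r (rels_bound r hr), triv_spec (rels_bound r hr) (rels_listed.2 r hr), Units.val_one]

theorem square_ne : gen .x * gen .x ≠ 1 := by
  intro h
  have e : (gen .x : GL (Fin 133) (ZMod 11)) = (gen .x)⁻¹ := eq_inv_of_mul_eq_one_left h
  have e' : mat 0 = mat 1 := congrArg Units.val e
  obtain ⟨i, hi, hin⟩ := List.any_eq_true.1 differ_check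
  obtain ⟨j, hj, hne⟩ := List.any_eq_true.1 hin
  have hi' := List.mem_range.1 hi
  have hj' := List.mem_range.1 hj
  have h1 := congrArg ZMod.val (congrArg (fun A : Sq => A ⟨i, hi'⟩ ⟨j, hj'⟩) e')
  unfold mat mats at h1
  simp only [List.getD_cons_zero, List.getD_cons_succ, PackedMat.matOf, Matrix.of_apply] at h1
  rw [ZMod.val_natCast, ZMod.val_natCast,
    Nat.mod_eq_of_lt (show _ < 11 from ((PackedMat.rowsOK_spec matX_check).2 i hi').2 j hj'),
    Nat.mod_eq_of_lt (show _ < 11 from ((PackedMat.rowsOK_spec matXInv_check).2 i hi').2 j hj')] at h1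
  rw [h1] at hne
  simp at hne

end CfsgLib.Spor.HN.Rep
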