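import Cfsg.Agent.Lib.Spor.HN.Rep.Masks

/-!
Some relators as products of the matrices.
-/

set_option autoImplicit false
set_option maxRecDepth 100000

namespace CfsgLib.Spor.HN.Rep

open CfsgLib.Spor

theorem rels_check0 : ([[2, 2, 2, 2, 2, 2],
    [0, 0, 2, 0, 0, 3],
    [1, 3, 0, 2, 1, 3, 0, 2, 1, 3, 0, 2]] : List (List ℕ)).all trivOK = true := by
  decide +kernel

end CfsgLib.Spor.HN.Rep
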