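import Cfsg.Agent.Lib.Spor.HN.Rep.CheckInv
import Cfsg.Agent.Lib.Spor.HN.Rep.Check0
import Cfsg.Agent.Lib.Spor.HN.Rep.Check1
import Cfsg.Agent.Lib.Spor.HN.Rep.Check2
import Cfsg.Agent.Lib.Spor.HN.Rep.Check3
import Cfsg.Agent.Lib.Spor.HN.Rep.Check4
import Cfsg.Agent.Lib.Spor.HN.Rep.Check5

/-!
The checks on the matrices, collected.
-/

set_option autoImplicit false
set_option maxRecDepth 100000

namespace CfsgLib.Spor.HN.Rep

open CfsgLib.Spor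

attribute [local irreducible] trivOK in
theorem rels_check : ([[2, 2, 2, 2, 2, 2],
    [0, 0, 2, 0, 0, 3],
    [1, 3, 0, 2, 1, 3, 0, 2, 1, 3, 0, 2],
    [1, 2, 2, 0, 2, 2, 2, 1, 2, 2, 0, 2, 2, 2, 1, 2, 2, 0, 2, 2, 2],
    [0, 2, 0, 2, 0, 2, 0, 2, 0, 2, 0, 2, 0, 2, 0, 2],
    [0, 2, 0, 2, 2, 2, 0, 2, 0, 2, 2, 2, 0, 2, 0, 2, 2, 2, 0, 2, 0, 2, 2, 2],
    [4, 4],
    [4, 0, 4, 0],
    [5, 2, 1, 3, 3, 1, 3, 1, 3, 4, 2, 0, 2, 0, 2, 2, 0, 3, 1, 1],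
    [4, 3, 1, 3, 1, 3, 3, 3, 4, 2, 2, 2, 0, 2, 0, 2, 0, 3, 1, 3, 1, 3, 3, 3, 4, 2, 2, 2, 0, 2, 0, 2, 0, 3, 1, 3, 1, 3, 3, 3, 4, 2, 2, 2, 0, 2, 0, 2, 0],
    [6, 6, 6, 6, 6],
    [1, 6, 0, 6, 6],
    [7, 3, 6, 2],
    [4, 6, 4, 6, 4, 6]] : List (List ℕ)).all trivOK = true := by
  have h := fun (L M : List (List ℕ)) (hL : L.all trivOK = true) (hM : M.all trivOK = true) =>
    show (L ++ M).all trivOK = true by rw [List.all_append, hL, hM]; rfl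
  exact (h _ _ (h _ _ (h _ _ (h _ _ (h _ _ rels_check0 rels_check1) rels_check2) rels_check3) rels_check4) rels_check5)

theorem differ_check : ((List.range 133).any fun i => (List.range 133).any fun j =>
    !Nat.beq (PackedMat.entry (matX.getD i 0) j) (PackedMat.entry (matXInv.getD i 0) j)) = true := by
  decide +kernel

end CfsgLib.Spor.HN.Rep
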